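import Mathlib

/-!
A valuation ring of a finite separable extension dominating a discrete valuation ring is discrete.
-/

set_option autoImplicit false

universe u

open IsLocalRing

namespace Groth.Agent.AlgSpVal2

theorem isDiscreteValuationRing_of_dominates (A K A' K' : Type u) [CommRing A] [IsDomain A]
    [IsDiscreteValuationRing A] [Field K] [Algebra A K] [IsFractionRing A K]
    [CommRing A'] [IsDomain A'] [ValuationRing A'] [Field K'] [Algebra A' K'] [IsFractionRing A' K']
    [Algebra A A'] [IsLocalHom (algebraMap A A')] [Algebra K K'] [Algebra A K'] [IsScalarTower A K K']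
    [IsScalarTower A A' K'] [Module.Finite K K'] [Algebra.IsSeparable K K'] : IsDiscreteValuationRing A' := by
  have hinj : Function.Injective (algebraMap A' K') := IsFractionRing.injective A' K'
  let C := integralClosure A K'
  have : IsFractionRing C K' := integralClosure.isFractionRing_of_finite_extension K K'
  have : IsDedekindDomain C := integralClosure.isDedekindDomain A K K'
  have hCmem : ∀ c : C, ∃ a : A', algebraMap A' K' a = c := fun c =>
    IsIntegrallyClosed.isIntegral_iff.1 (c.2.tower_top)
  choose j hj using hCmem
  let φ : C →+* A' :=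
    { toFun := j
      map_one' := hinj (by rw [hj, map_one]; rfl)
      map_mul' := fun x y => hinj (by rw [hj, map_mul, hj, hj]; rfl)
      map_zero' := hinj (by rw [hj, map_zero]; rfl)
      map_add' := fun x y => hinj (by rw [hj, map_add, hj, hj]; rfl) }
  let P : Ideal C := (maximalIdeal A').comap φ
  obtain ⟨π, hπ⟩ := IsDiscreteValuationRing.exists_irreducible A
  have hP : P ≠ ⊥ := by
    intro h
    have hmem : algebraMap A C π ∈ P := by
      show φ (algebraMap A C π) ∈ maximalIdeal A'
      rw [show φ (algebraMap A C π) = algebraMap A A' π from hinj (by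
        rw [← IsScalarTower.algebraMap_apply A A' K']; exact hj _)]
      exact fun hu => hπ.not_isUnit (IsLocalHom.map_nonunit π hu)
    rw [h, Ideal.mem_bot] at hmem
    have := congrArg Subtype.val hmem
    change algebraMap A K' π = 0 at this
    rw [IsScalarTower.algebraMap_apply A K K', map_eq_zero] at this
    exact hπ.ne_zero ((IsFractionRing.injective A K) (this.trans (map_zero _).symm))
  let Cp := Localization.AtPrime P
  have : IsDiscreteValuationRing Cp := IsLocalization.AtPrime.isDiscreteValuationRing_of_dedekind_domain C hP Cp
  let L : Cp →+* A' := IsLocalization.lift (M := P.primeCompl) (g := φ) fun s => by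
    by_contra h
    exact s.2 h
  have hLinj : Function.Injective L := by
    rw [injective_iff_map_eq_zero]
    intro z hz
    obtain ⟨c, s, rfl⟩ := IsLocalization.exists_mk'_eq P.primeCompl z
    rw [IsLocalization.lift_mk'_spec, mul_zero] at hz
    have hc : (c : K') = 0 := by rw [← hj, show j c = 0 from hz, map_zero]
    rw [Subtype.ext (a1 := c) (a2 := 0) hc, IsLocalization.mk'_zero]
  let Lf : Cp →+* K' := (algebraMap A' K').comp L
  have hLsurj : Function.Surjective L := by
    intro a
    by_cases ha : a = 0
    · exact ⟨0, by rw [map_zero, ha]⟩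
    obtain ⟨x, y, hy, hxy⟩ := IsFractionRing.div_surjective C (K := K') (algebraMap A' K' a)
    have hy' : φ y ≠ 0 := fun h => nonZeroDivisors.ne_zero hy (Subtype.ext (by
      have := hj y
      rw [show j y = 0 from h, map_zero] at this
      exact this.symm))
    have hxy' : φ x = a * φ y := hinj (by
      rw [map_mul]
      show algebraMap A' K' (j x) = _ * algebraMap A' K' (j y)
      rw [hj, hj]
      rw [eq_comm, ← eq_div_iff (by simpa using nonZeroDivisors.ne_zero hy)]
      exact hxy.symm)
    rcases ValuationRing.dvd_total (algebraMap C Cp x) (algebraMap C Cp y) with ⟨w, hw⟩ | ⟨w, hw⟩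
    · -- then a * L w = 1
      have h1 : φ y = φ x * L w := by
        rw [← IsLocalization.lift_eq (M := P.primeCompl) (S := Cp) _ y, hw, map_mul, IsLocalization.lift_eq]
      have h2 : a * L w = 1 := by
        rw [hxy'] at h1
        exact mul_left_cancel₀ hy' (by linear_combination -h1)
      have hu : IsUnit w := by
        by_contra h
        have : L w ∈ maximalIdeal A' := by
          have hw' : w ∈ maximalIdeal Cp := h
          obtain ⟨c, s, rfl⟩ := IsLocalization.exists_mk'_eq P.primeCompl w
          rw [IsLocalization.AtPrime.mk'_mem_maximal_iff Cp P] at hw'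
          have h3 : φ c = φ s * L (IsLocalization.mk' Cp c s) := by
            rw [mul_comm]
            calc φ c = L (algebraMap C Cp c) := (IsLocalization.lift_eq _ c).symm
              _ = L (IsLocalization.mk' Cp c s * algebraMap C Cp s) := by rw [IsLocalization.mk'_spec]
              _ = _ := by rw [map_mul, IsLocalization.lift_eq]
          have h4 : φ c ∈ maximalIdeal A' := hw'
          rw [h3] at h4
          exact ((maximalIdeal.isMaximal A').isPrime.mem_or_mem h4).resolve_left s.2
        exact this (IsUnit.of_mul_eq_one a (by rw [mul_comm]; exact h2))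
      obtain ⟨v, rfl⟩ := hu
      refine ⟨↑v⁻¹, mul_left_cancel₀ (left_ne_zero_of_mul_eq_one ((mul_comm _ _).trans h2)) ?_⟩
      rw [← map_mul, v.mul_inv, map_one, mul_comm, h2]
    · refine ⟨w, mul_left_cancel₀ hy' ?_⟩
      rw [← IsLocalization.lift_eq (M := P.primeCompl) (S := Cp) (g := φ) (fun s => by by_contra h; exact s.2 h) y,
        ← map_mul, ← hw, IsLocalization.lift_eq, IsLocalization.lift_eq, hxy', mul_comm]
  exact IsDiscreteValuationRing.RingEquivClass.isDiscreteValuationRing (RingEquiv.ofBijective L ⟨hLinj, hLsurj⟩)

end Groth.Agent.AlgSpVal2
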